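import Cfsg.Agent.Lib.Spor.CoThreePerm.Data
import Cfsg.Agent.Lib.Spor.CoThreePerm.OutData

/-!
The element of order twenty-three, the element of order eleven, the involution, and their certificates.
-/

set_option autoImplicit false
set_option maxRecDepth 20000
set_option maxHeartbeats 0

namespace CfsgLib.Spor.CoThreePerm

open CfsgLib.Spor.PermCert

/-- The element of order twenty-three. -/
def xI : ℕ := 1213

/-- The element of order eleven. -/
def yI : ℕ := 1311

/-- The involution. -/
def wI : ℕ := 1376

/-- Iterates on numbers. -/
def itN (f : ℕ → ℕ) : ℕ → ℕ → ℕ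
  | 0, b => b
  | n + 1, b => f (itN f n b)

/-- The element of order twenty-three on numbers. -/
def xN (b : ℕ) : ℕ := look 9 eltRows xI b

/-- The element of order eleven on numbers. -/
def yN (b : ℕ) : ℕ := look 9 eltRows yI b

/-- The involution on numbers. -/
def wN (b : ℕ) : ℕ := look 9 eltRows wI b

/-- The inverse of the element of order twenty-three on numbers. -/
def xN' (b : ℕ) : ℕ := look 9 eltRows (xIdx.getD 22 0) b

/-- The word of the relation. -/
def relN (f : ℕ → ℕ) (b : ℕ) : ℕ := itN (fun c => f (wN (f (f (wN (itN f 8 (wN c))))))) 6 b

theorem elt_facts : (basePts.all fun b => itN xN 23 b == b) = true ∧ (basePts.any fun b => !(xN b == b)) = true ∧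
    (basePts.all fun b => yN (xN b) == xN (xN (yN b))) = true ∧
    (basePts.all fun b => wN (wN b) == b) = true ∧ (basePts.any fun b => !(wN b == b)) = true ∧
    (basePts.all fun b => wN (yN b) == yN (wN b)) = true ∧
    (basePts.all fun b => relN xN b == b) = true ∧ (basePts.any fun b => !(relN xN' b == b)) = true ∧
    (basePts.all fun b => xN (xN' b) == b) = true := by
  decide +kernel

theorem index_lt : (xIdx.all fun a => decide (a < 1387)) = true ∧ (cyIdx.all fun a => decide (a < 1387)) = true ∧
    xIdx.length = 23 ∧ cyIdx.length = 22 := by
  decide +kernel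

theorem powers_check : ((List.range 23).all fun i => basePts.all fun b =>
    look 9 eltRows (xIdx.getD i 0) b == itN xN i b) = true ∧
    (basePts.length == baseExp.length) = true ∧
    ((List.range basePts.length).all fun i => itN xN (baseExp.getD i 0) 0 == basePts.getD i 0) = true ∧
    basePts.getD 0 1 = 0 := by
  decide +kernel

theorem xcert_check : ((List.range 276).all fun c => certOK 276 9 eltRows 1387 basePts transIdx xIdx
    (baseExp.map fun e => itN xN e c) (xCerts.getD c ([], 0, 0))) = true := by
  decide +kernel

theorem cy_check : (cyIdx.all fun a => (basePts.all fun b => look 9 eltRows a b == b) ||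
    (basePts.all fun b => look 9 eltRows a b == wN b) ||
    (basePts.any fun b => !(look 9 eltRows a (look 9 eltRows a b) == b))) = true ∧
    ((List.range 276).all fun b => (!(yN b == b)) || b == 0) = true ∧ yN 0 = 0 ∧
    (basePts.length == baseExp2.length) = true ∧
    ((List.range basePts.length).all fun i =>
      (if baseExp2.getD i 0 == 0 then 0 else itN yN (baseExp2.getD i 0 - 1) (basePts.getD 1 0)) ==
        basePts.getD i 1000) = true := by
  decide +kernel

theorem ycert_check : ((List.range 276).all fun c => certOK 276 9 eltRows 1387 basePts transIdx cyIdx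
    (baseExp2.map fun e => if e == 0 then 0 else itN yN (e - 1) c) (yCerts.getD c ([], 0, 0))) = true := by
  decide +kernel

theorem pair_ops : opsOK 276 9 pairRows pairOps 2 = true := by decide +kernel

theorem pair_seed : ((List.range 276).all fun b => look 9 pairRows 0 b == xN b && look 9 pairRows 1 b == wN b) = true := by
  decide +kernel

theorem pair_gens : ((List.range 8).all fun k => decide (pairGens.getD k 0 < 2 + pairOps.length) &&
    (List.range 276).all fun b => look 9 pairRows (pairGens.getD k 0) b == look 9 eltRows k b) = true := by
  decide +kernel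

end CfsgLib.Spor.CoThreePerm
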