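import Cfsg.Agent.Lib.Spor.CoThreePerm.Group
import Cfsg.Agent.Lib.Spor.CoThreePerm.CheckX
import Cfsg.Agent.Lib.Spor.PermCert.OutRigid

/-!
The outer automorphism group of the third Conway group is trivial.
-/

set_option autoImplicit false
set_option maxRecDepth 20000

namespace CfsgLib.Spor.CoThreePerm

open Cfsg CfsgLib.Spor.PermCert

theorem finite_P : Finite ↥P := Nat.finite_of_card_ne_zero (by rw [card_P]; norm_num)

/-- An element of the group acts as a function on numbers. -/
def Does (g : ↥P) (f : ℕ → ℕ) : Prop := ∀ i : Fin 276, (g.1 i).1 = f i.1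

/-- An element. -/
noncomputable def E (k : ℕ) : ↥P :=
  if h : k < 1387 then ⟨(elt_mem k h).choose, (elt_mem k h).choose_spec.1⟩ else 1

theorem does_E {k : ℕ} (h : k < 1387) : Does (E k) (look 9 eltRows k) := fun i => by
  rw [E, dif_pos h]
  exact (elt_mem k h).choose_spec.2 i

theorem does_one : Does 1 id := fun _ => rfl

theorem Does.mul {g h : ↥P} {f f' : ℕ → ℕ} (hg : Does g f) (hh : Does h f') :
    Does (g * h) (fun b => f (f' b)) := fun i => by
  show ((g * h).1 i).1 = f (f' i.1)
  rw [Subgroup.coe_mul, Equiv.Perm.mul_apply, hg, hh]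

theorem Does.pow {g : ↥P} {f : ℕ → ℕ} (hg : Does g f) : ∀ m : ℕ, Does (g ^ m) (itN f m)
  | 0 => fun i => by simp [itN]
  | m + 1 => fun i => by
    rw [pow_succ', Subgroup.coe_mul, Equiv.Perm.mul_apply, hg, Does.pow hg m i]
    rfl

theorem eq_of_does {g h : ↥P} {f f' : ℕ → ℕ} (hg : Does g f) (hh : Does h f')
    (e : ∀ b ∈ basePts, f b = f' b) : g = h :=
  Subtype.ext (eq_of_base elt_mem chain_check.1 card_eq g.2 h.2 fun b hb => Fin.ext (by
    rw [hg, hh, pnt_val (base_lt hb)]; exact e b hb))

theorem Does.congr_base {g : ↥P} {f : ℕ → ℕ} (hg : Does g f) {h : ↥P} {f' : ℕ → ℕ} (hh : Does h f')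
    (e : g = h) {b : ℕ} (hb : b < 276) : f b = f' b := by
  have h1 := hg (pnt 276 b)
  have h2 := hh (pnt 276 b)
  rw [e, h2, pnt_val hb] at h1
  exact h1.symm

/-- The element of order twenty-three. -/
noncomputable def X : ↥P := E xI

/-- The element of order eleven. -/
noncomputable def Y : ↥P := E yI

/-- The involution. -/
noncomputable def W : ↥P := E wI

theorem X_does : Does X xN := does_E (k := xI) (by decide)

theorem Y_does : Does Y yN := does_E (k := yI) (by decide)

theorem W_does : Does W wN := does_E (k := wI) (by decide)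

theorem closure_pair : Subgroup.closure ({X, W} : Set ↥P) = ⊤ := by
  have hs := pair_seed
  have hg := pair_gens
  simp only [List.all_eq_true, List.mem_range, Bool.and_eq_true, decide_eq_true_eq, beq_iff_eq] at hs hg
  set C := (Subgroup.closure ({X, W} : Set ↥P)).map P.subtype with hC
  have hgen : genSet ⊆ C := by
    rintro a ⟨-, k, hk, hm⟩
    obtain ⟨hlt, he⟩ := hg k hk
    obtain ⟨g, hgC, hgm⟩ := exists_of_ops pair_ops C (fun j hj => by
      interval_cases j
      · exact ⟨_, ⟨X, Subgroup.subset_closure (by simp), rfl⟩, fun i => by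
          rw [(hs i.1 i.2).1]; exact X_does i⟩
      · exact ⟨_, ⟨W, Subgroup.subset_closure (by simp), rfl⟩, fun i => by
          rw [(hs i.1 i.2).2]; exact W_does i⟩) _ hlt
    have : a = g := Equiv.ext fun i => Fin.ext (((hm i).trans (he i.1 i.2).symm).trans (hgm i).symm)
    exact this ▸ hgC
  have hle : P ≤ C := closure_genSet ▸ (Subgroup.closure_le _).2 hgen
  refine eq_top_iff.2 fun g _ => ?_
  obtain ⟨a, ha, e⟩ := hle g.2
  have h : a = g := Subtype.ext e
  exact h ▸ ha

theorem x_order : orderOf X = 23 := by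
  obtain ⟨h1, h2, -⟩ := elt_facts
  simp only [List.all_eq_true, List.any_eq_true, beq_iff_eq, Bool.not_eq_true', beq_eq_false_iff_ne] at h1 h2
  have : Fact (Nat.Prime 23) := ⟨by norm_num⟩
  refine orderOf_eq_prime (eq_of_does (X_does.pow 23) does_one h1) fun e => ?_
  obtain ⟨b, hb, hne⟩ := h2
  exact hne (X_does.congr_base does_one e (base_lt hb))

theorem y_conj : Y * X * Y⁻¹ = X ^ 2 := by
  have h := elt_facts.2.2.1
  simp only [List.all_eq_true, beq_iff_eq] at h
  rw [mul_inv_eq_iff_eq_mul]
  exact eq_of_does (Y_does.mul X_does) ((X_does.pow 2).mul Y_does) h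

theorem w_sq : W * W = 1 := by
  have h := elt_facts.2.2.2.1
  simp only [List.all_eq_true, beq_iff_eq] at h
  exact eq_of_does (W_does.mul W_does) does_one h

theorem w_ne : W ≠ 1 := by
  have h := elt_facts.2.2.2.2.1
  simp only [List.any_eq_true, Bool.not_eq_true', beq_eq_false_iff_ne] at h
  obtain ⟨b, hb, hne⟩ := h
  exact fun e => hne (W_does.congr_base does_one e (base_lt hb))

theorem w_comm : W * Y = Y * W := by
  have h := elt_facts.2.2.2.2.2.1
  simp only [List.all_eq_true, beq_iff_eq] at h
  exact eq_of_does (W_does.mul Y_does) (Y_does.mul W_does) h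

theorem centralizer_x (g : ↥P) (hg : g * X = X * g) : g ∈ Subgroup.zpowers X := by
  obtain ⟨hp, hl, he, h0⟩ := powers_check
  have hc := xcert_check
  simp only [List.all_eq_true, List.mem_range, beq_iff_eq] at hp hl he hc
  set c := (g.1 (pnt 276 0)).1
  obtain ⟨a, ha, hm⟩ := certOK_spec elt_mem chain_check.1 card_eq (fun b hb => base_lt hb)
    (hc c (g.1 (pnt 276 0)).2) g.2 fun i hi => by
      have hpow : g * X ^ baseExp.getD i 0 = X ^ baseExp.getD i 0 * g := (Commute.pow_right hg _).eq
      have h1 : X.1 = X.1 := rfl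
      have e : (pnt 276 (basePts.getD i 0)) = (X ^ baseExp.getD i 0).1 (pnt 276 0) := Fin.ext (by
        rw [X_does.pow _ (pnt 276 0),
          pnt_val (base_lt (by rw [List.getD_eq_getElem _ _ hi]; exact List.getElem_mem hi)),
          pnt_val (show 0 < 276 by norm_num), he i hi])
      rw [e, ← Equiv.Perm.mul_apply, ← Subgroup.coe_mul, hpow, Subgroup.coe_mul, Equiv.Perm.mul_apply,
        X_does.pow _ _]
      rw [List.getD_eq_getElem (l := baseExp.map _) _ (by rw [List.length_map, ← hl]; exact hi), List.getElem_map,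
        List.getD_eq_getElem _ _ (by rw [← hl]; exact hi)]
  obtain ⟨i, hi, rfl⟩ := List.getElem_of_mem ha
  have hlt := index_lt.1
  simp only [List.all_eq_true, decide_eq_true_eq] at hlt
  have hlen := index_lt.2.2.1
  refine Subgroup.mem_zpowers_iff.2 ⟨(i : ℤ), ?_⟩
  rw [zpow_natCast]
  refine eq_of_does (X_does.pow i) (fun j => hm j) fun b hb => ?_
  rw [← hp i (by omega) b hb, List.getD_eq_getElem _ _ hi]

theorem centralizer_y (g : ↥P) (hg : g * Y = Y * g) (hsq : g * g = 1) : g = 1 ∨ g = W := by
  obtain ⟨hcy, hfix, hy0, hl, he⟩ := cy_check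
  have hc := ycert_check
  simp only [List.all_eq_true, List.any_eq_true, List.mem_range, Bool.or_eq_true, Bool.not_eq_true',
    beq_eq_false_iff_ne, beq_iff_eq] at hcy hfix hl he hc
  set z := (g.1 (pnt 276 (basePts.getD 1 0))).1
  have hg0 : (g.1 (pnt 276 0)).1 = 0 := by
    refine (hfix _ (g.1 (pnt 276 0)).2).resolve_left (not_not.2 ?_)
    rw [← Y_does (g.1 (pnt 276 0)), ← Equiv.Perm.mul_apply, ← Subgroup.coe_mul, ← hg, Subgroup.coe_mul,
      Equiv.Perm.mul_apply]
    exact congrArg (fun p => (g.1 p).1) (Fin.ext ((Y_does (pnt 276 0)).trans hy0))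
  obtain ⟨a, ha, hm⟩ := certOK_spec elt_mem chain_check.1 card_eq (fun b hb => base_lt hb)
    (hc z (g.1 _).2) g.2 fun i hi => by
      have hb1 : basePts.getD 1 0 < 276 := by decide +kernel
      have hb : basePts.getD i 0 < 276 := base_lt (by rw [List.getD_eq_getElem _ _ hi]; exact List.getElem_mem hi)
      have hei := he i hi
      rw [List.getD_eq_getElem _ _ hi, ← List.getD_eq_getElem _ 0 hi] at hei
      rw [List.getD_eq_getElem (l := baseExp2.map _) _ (by rw [List.length_map, ← hl]; exact hi), List.getElem_map,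
        ← List.getD_eq_getElem _ 0 (show i < baseExp2.length by rw [← hl]; exact hi)]
      by_cases h0 : baseExp2.getD i 0 = 0
      · rw [if_pos h0]
        rw [if_pos h0] at hei
        rw [← hei, hg0]
      · rw [if_neg h0]
        rw [if_neg h0] at hei
        have hpow := (Commute.pow_right hg (baseExp2.getD i 0 - 1)).eq
        have e : (pnt 276 (basePts.getD i 0)) =
            (Y ^ (baseExp2.getD i 0 - 1)).1 (pnt 276 (basePts.getD 1 0)) := Fin.ext (by
          rw [Y_does.pow _ (pnt 276 (basePts.getD 1 0)), pnt_val hb, pnt_val hb1, hei])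
        rw [e, ← Equiv.Perm.mul_apply, ← Subgroup.coe_mul, hpow, Subgroup.coe_mul, Equiv.Perm.mul_apply,
          Y_does.pow _ _]
  have hlt := index_lt.2.1
  simp only [List.all_eq_true, decide_eq_true_eq] at hlt
  have hga : Does g (look 9 eltRows a) := fun j => hm j
  rcases hcy a ha with (h | h) | ⟨b, hb, hne⟩
  · exact Or.inl (eq_of_does hga does_one h)
  · exact Or.inr (eq_of_does hga W_does h)
  · exact absurd ((hga.mul hga).congr_base does_one hsq (base_lt hb)) hne

theorem inverse_fails (φ : MulAut ↥P) (hw : φ W = W) : φ X ≠ X⁻¹ := by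
  intro hx
  obtain ⟨-, -, -, -, -, -, hr, hr', hxi⟩ := elt_facts
  simp only [List.all_eq_true, List.any_eq_true, Bool.not_eq_true', beq_eq_false_iff_ne, beq_iff_eq] at hr hr' hxi
  have hlt := index_lt.1
  simp only [List.all_eq_true, decide_eq_true_eq] at hlt
  have h22 : Does (E (xIdx.getD 22 0)) xN' := does_E (by decide +kernel)
  have hinv : E (xIdx.getD 22 0) = X⁻¹ := eq_inv_of_mul_eq_one_right (eq_of_does (X_does.mul h22) does_one hxi)
  have rel : ∀ {Z : ↥P} {f : ℕ → ℕ}, Does Z f → Does ((Z * (W * (Z * (Z * (W * (Z ^ 8 * W)))))) ^ 6) (relN f) :=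
    fun {Z f} hZ => ((hZ.mul (W_does.mul (hZ.mul (hZ.mul (W_does.mul ((hZ.pow 8).mul W_does)))))).pow 6)
  have h1 : (X * (W * (X * (X * (W * (X ^ 8 * W)))))) ^ 6 = 1 := eq_of_does (rel X_does) does_one hr
  have h2 := congrArg φ h1
  simp only [map_pow, map_mul, hw, hx, map_one] at h2
  rw [← hinv] at h2
  obtain ⟨b, hb, hne⟩ := hr'
  exact hne ((rel h22).congr_base does_one h2 (base_lt hb))

theorem out_P : Nat.card (Out ↥P) = 1 := by
  have := finite_P
  haveI : Fact (Nat.Prime 23) := ⟨by norm_num⟩
  have hfac : (Nat.card ↥P).factorization 23 = 1 := by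
    rw [card_P, show (495766656000 : ℕ) = 23 ^ 1 * 21555072000 by norm_num,
      Nat.factorization_mul (by norm_num) (by norm_num), Nat.factorization_pow, Finsupp.add_apply,
      Finsupp.smul_apply, Nat.Prime.factorization_self (by norm_num),
      Nat.factorization_eq_zero_of_not_dvd (by norm_num)]
    rfl
  refine out_eq_one X Y W (r := 2) x_order hfac y_conj (by decide) ?_ centralizer_x w_comm w_sq w_ne centralizer_y
    closure_pair inverse_fails
  have h : ∀ k < 23, k ≠ 0 → ∃ i < 11, k * 2 ^ i % 23 = 1 ∨ k * 2 ^ i % 23 = 22 := by decide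
  intro k hk h0
  obtain ⟨i, -, hi⟩ := h k hk h0
  exact ⟨i, hi⟩

/-- Isomorphic groups have outer automorphism groups of the same order. -/
theorem out_card_iso {G H : Type*} [Group G] [Group H] (e : G ≃* H) :
    Nat.card (Out G) = Nat.card (Out H) := by
  change (Inn G).index = (Inn H).index
  have hm : (Inn G).map (MulAut.congr e).toMonoidHom = Inn H := by
    rw [Inn, Inn, MonoidHom.map_range]
    have hc : (MulAut.congr e).toMonoidHom.comp MulAut.conj = MulAut.conj.comp e.toMonoidHom := by
      ext g x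
      simp [MulAut.congr]
    rw [hc, MonoidHom.range_comp, MonoidHom.range_eq_top.2 e.surjective, ← MonoidHom.range_eq_map]
  rw [← hm]
  exact (Subgroup.index_map_equiv (H := Inn G) (MulAut.congr e)).symm

theorem out_Co3 : Nat.card (Out ↥Spor.Co3) = 1 := by
  obtain ⟨e⟩ := nonempty_equiv_Co3
  exact (out_card_iso e).trans out_P

end CfsgLib.Spor.CoThreePerm
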