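import Cfsg.Agent.Lib.Spor.CoThreePerm.Data
import Cfsg.Agent.Lib.Spor.Leech.Census.Data.Gens

/-!
The generators permute the pairs of vectors as listed.
-/

set_option autoImplicit false
set_option maxRecDepth 20000
set_option maxHeartbeats 0

namespace CfsgLib.Spor.CoThreePerm

open CfsgLib.Spor.Leech.Census32 CfsgLib.Spor.PermCert

theorem gen_check : ((List.range 8).all fun k => (List.range 276).all fun i => decide (look 9 eltRows k i < 276) &&
    (Nat.beq (step (threeMats.getD k oneMat) (vecCodes.getD i 0)) (vecCodes.getD (look 9 eltRows k i) 0) ||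
      Nat.beq (step (threeMats.getD k oneMat) (vecCodes.getD i 0)) (vecCodes.getD (look 9 eltRows k i + 276) 0))) = true := by
  decide +kernel

end CfsgLib.Spor.CoThreePerm
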