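import Cfsg.Agent.Lib.Spor.CoThreePerm.CheckOps0
import Cfsg.Agent.Lib.Spor.CoThreePerm.CheckOps1
import Cfsg.Agent.Lib.Spor.CoThreePerm.CheckOps2

/-!
The products and the orbits along the base.
-/

set_option autoImplicit false
set_option maxRecDepth 20000
set_option maxHeartbeats 0

namespace CfsgLib.Spor.CoThreePerm

open CfsgLib.Spor.PermCert

theorem elt_ops : opsOK 276 9 eltRows eltOps 8 = true := by
  have h0 := elt_ops0
  have h1 := elt_ops1
  have h2 := elt_ops2
  have hl : eltOps.length = 1379 := by decide +kernel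
  simp only [opsOK, List.all_eq_true, List.mem_range] at h0 h1 h2 ⊢
  intro k hk
  rcases Nat.lt_or_ge k 460 with hlt | hge
  · simpa using h0 k hlt
  rcases Nat.lt_or_ge k 920 with hlt | hge'
  · obtain ⟨d, rfl⟩ := Nat.exists_eq_add_of_le hge
    exact h1 d (by omega)
  · obtain ⟨d, rfl⟩ := Nat.exists_eq_add_of_le hge'
    exact h2 d (by omega)

theorem chain_check : chainOK 276 9 eltRows 1387 [] basePts transIdx = true ∧
    (transIdx.map List.length).prod = 495766656000 ∧
    (basePts.all fun b => decide (b < 276)) = true := by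
  decide +kernel

end CfsgLib.Spor.CoThreePerm
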