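import Cfsg.Agent.Lib.Spor.CoThreePerm.Vectors
import Cfsg.Agent.Lib.Spor.CoThreePerm.CheckGen
import Cfsg.Agent.Lib.Spor.CoThreePerm.CheckOps
import Cfsg.Agent.Lib.Spor.Leech.Stabilizers

/-!
The third Conway group as a permutation group of the pairs of vectors with explicit generators.
-/

set_option autoImplicit false
set_option maxRecDepth 20000

namespace CfsgLib.Spor.CoThreePerm

open Cfsg MulAction CfsgLib.Spor.Leech CfsgLib.Spor.Leech.Census32 CfsgLib.Spor.PermCert

attribute [local irreducible] chosen pairOf head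

/-- The stabilizer of the marked vector. -/
abbrev G0 : Subgroup Co0 := stabilizer Co0 u3L

theorem isCo3_G0 : IsCo3 ↥G0 := isCo3_stabilizer sq_u3L

theorem card_G0 : Nat.card ↥G0 = 495766656000 := card_stab48 sq_u3L

theorem gen_mem (k : Fin 8) : threeElts.getD k.1 1 ∈ G0 := three_fix k

/-- The image of a pair. -/
noncomputable def act (g : ↥G0) (i : Fin 276) : Fin 276 :=
  pairOf ⟨g.1 • (head i).1, smul_mem g.2 (head i).2⟩

theorem act_pairOf (g : ↥G0) (y : ↥(pickL testsE)) : act g (pairOf y) = pairOf ⟨g.1 • y.1, smul_mem g.2 y.2⟩ := by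
  rcases head_pairOf y with h | h
  · exact congrArg pairOf (Subtype.ext (congrArg (g.1 • ·) h))
  · rw [← pairOf_flip ⟨g.1 • y.1, smul_mem g.2 y.2⟩]
    refine congrArg pairOf (Subtype.ext ?_)
    show g.1 • (head (pairOf y)).1 = u3L - g.1 • y.1
    rw [h, co0_flip g.2]

theorem act_one (i : Fin 276) : act 1 i = i := by
  conv_rhs => rw [← pairOf_head i]
  exact congrArg pairOf (Subtype.ext (one_smul _ _))

theorem act_mul (g h : ↥G0) (i : Fin 276) : act (g * h) i = act g (act h i) := by
  conv_rhs => arg 2; rw [act]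
  rw [act_pairOf]
  exact congrArg pairOf (Subtype.ext (mul_smul _ _ _))

/-- The action on the pairs. -/
noncomputable def rho : ↥G0 →* Equiv.Perm (Fin 276) where
  toFun g :=
    { toFun := act g
      invFun := act g⁻¹
      left_inv := fun i => by rw [← act_mul, inv_mul_cancel, act_one]
      right_inv := fun i => by rw [← act_mul, mul_inv_cancel, act_one] }
  map_one' := Equiv.ext act_one
  map_mul' g h := Equiv.ext (act_mul g h)

/-- The permutation group. -/
noncomputable def P : Subgroup (Equiv.Perm (Fin 276)) := rho.range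

theorem gen_matches : ∀ k < 8, ∃ g ∈ P, Matches 9 g eltRows k := by
  intro k hk
  refine ⟨rho ⟨_, gen_mem ⟨k, hk⟩⟩, ⟨_, rfl⟩, fun i => ?_⟩
  have h := gen_check
  simp only [List.all_eq_true, List.mem_range, Bool.and_eq_true, Bool.or_eq_true, decide_eq_true_eq] at h
  obtain ⟨hlt, he⟩ := h k hk i.1 i.2
  show (act _ i).1 = _
  have key : ∀ j : Fin 552, step (threeMats.getD k oneMat) (code i.1) = code j.1 →
      (act ⟨_, gen_mem ⟨k, hk⟩⟩ i).1 = j.1 % 276 := fun j hj => by
    rw [← pairOf_vec, act]
    refine congrArg (fun z => (pairOf z).1) (vec_eq ?_)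
    show enc ((threeElts.getD k 1 • (head i).1 : leechLattice) : GolayPt → ℤ) = _
    have e1 : enc ((head i).1 : GolayPt → ℤ) = code i.1 := by rw [head, enc_vec]
    rw [← step_enc (isMat_three _) (by rw [(head i).2.1]; norm_num), e1]
    exact hj
  rcases he with he | he
  · rw [key ⟨look 9 eltRows k i.1, by omega⟩ (Nat.eq_of_beq_eq_true he)]
    exact Nat.mod_eq_of_lt hlt
  · rw [key ⟨look 9 eltRows k i.1 + 276, by omega⟩ (Nat.eq_of_beq_eq_true he)]
    show (look 9 eltRows k i.1 + 276) % 276 = _
    omega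

theorem elt_count : 8 + eltOps.length = 1387 := by decide +kernel

theorem elt_mem : ∀ k < 1387, ∃ g ∈ P, Matches 9 g eltRows k := fun k hk =>
  exists_of_ops elt_ops P gen_matches k (by rw [elt_count]; exact hk)

theorem rho_injective : Function.Injective rho := by
  haveI := isCo3_G0.1
  rw [← MonoidHom.ker_eq_bot_iff]
  refine rho.normal_ker.eq_bot_or_eq_top.resolve_right fun h => ?_
  have hne : ((List.range 276).any fun i => !(look 9 eltRows 0 i == i)) = true := by decide +kernel
  simp only [List.any_eq_true, List.mem_range, Bool.not_eq_true', beq_eq_false_iff_ne] at hne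
  obtain ⟨i, hi, hne⟩ := hne
  obtain ⟨_, ⟨g, rfl⟩, hg⟩ := gen_matches 0 (by norm_num)
  have e : rho g = 1 := MonoidHom.mem_ker.1 (h ▸ Subgroup.mem_top g)
  refine hne ?_
  rw [← hg ⟨i, hi⟩, e]
  rfl

/-- The stabilizer is the permutation group. -/
noncomputable def equivP : ↥G0 ≃* ↥P := MonoidHom.ofInjective rho_injective

theorem card_P : Nat.card ↥P = 495766656000 := by rw [← Nat.card_congr equivP.toEquiv, card_G0]

theorem card_eq : Nat.card ↥P = (transIdx.map List.length).prod := by rw [card_P, chain_check.2.1]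

theorem base_lt {b : ℕ} (hb : b ∈ basePts) : b < 276 := by
  have h := chain_check.2.2
  simp only [List.all_eq_true, decide_eq_true_eq] at h
  exact h b hb

/-- The group spanned by the generators. -/
noncomputable def genSet : Set (Equiv.Perm (Fin 276)) := {g | g ∈ P ∧ ∃ k < 8, Matches 9 g eltRows k}

theorem closure_genSet : Subgroup.closure genSet = P := by
  refine Subgroup.eq_of_le_of_card_ge ((Subgroup.closure_le _).2 fun g hg => hg.1) ?_
  have hmem : ∀ k < 1387, ∃ g ∈ Subgroup.closure genSet, Matches 9 g eltRows k := fun k hk =>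
    exists_of_ops elt_ops _ (fun j hj => by
      obtain ⟨g, hg, hm⟩ := gen_matches j hj
      exact ⟨g, Subgroup.subset_closure ⟨hg, j, hj, hm⟩, hm⟩) k (by rw [elt_count]; exact hk)
  have := card_chain hmem chain_check.1
  rw [← card_eq] at this
  exact le_trans (Nat.le_mul_of_pos_right _ Nat.card_pos) this

/-! ### The frozen group -/

theorem stab_co3 : (stabilizer Co0 Spor.leechV : Subgroup Co0) = Spor.Co3.subgroupOf Co0 := by
  ext g
  simp only [Subgroup.mem_subgroupOf, Spor.Co3, Subgroup.mem_inf, mem_stabilizer_iff]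
  exact ⟨fun a => ⟨g.2, a⟩, fun a => a.2⟩

theorem nonempty_equiv_Co3 : Nonempty (↥Spor.Co3 ≃* ↥P) := by
  have hv : sqNorm (Spor.leechV : GolayPt → ℤ) = 48 := by decide +kernel
  obtain ⟨g, hg⟩ := transitive_norm (x := Spor.leechV) (y := u3L) (Or.inr (Or.inl hv)) (sq_u3L.trans hv.symm)
  have hle : Spor.Co3 ≤ Co0 := fun x hx => hx.1
  exact ⟨((Subgroup.subgroupOfEquivOfLe hle).symm.trans (MulEquiv.subgroupCongr stab_co3.symm)).trans
    ((stabEquiv hg).trans equivP)⟩

end CfsgLib.Spor.CoThreePerm
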