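import Cfsg.Agent.Lib.Spor.CoThreePerm.Data

/-!
Part of the check of the products.
-/

set_option autoImplicit false
set_option maxRecDepth 20000
set_option maxHeartbeats 0

namespace CfsgLib.Spor.CoThreePerm

open CfsgLib.Spor.PermCert

theorem elt_ops0 : ((List.range 460).all fun j =>
    let k := 0 + j
    let e := eltOps.getD k (0, 0)
    decide (e.1 < 8 + k) && decide (e.2 < 8 + k) &&
      (List.range 276).all fun i => look 9 eltRows (8 + k) i == look 9 eltRows e.1 (look 9 eltRows e.2 i)) = true := by
  decide +kernel

end CfsgLib.Spor.CoThreePerm
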