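import Cfsg.Agent.Lib.Spor.CoThreePerm.Data
import Cfsg.Agent.Lib.Spor.Leech.Census.HSConfig
import Cfsg.Agent.Lib.Spor.Leech.McLaughlin

/-!
The minimal vectors of product twenty-four with the marked vector, in two hundred and seventy-six pairs.
-/

set_option autoImplicit false
set_option maxRecDepth 20000
set_option maxHeartbeats 0

namespace CfsgLib.Spor.CoThreePerm

open Cfsg MulAction CfsgLib.Spor.Leech CfsgLib.Spor.Leech.Census32 CfsgLib.Spor.PermCert

/-- The tests. -/
def testsE : List (leechLattice × ℤ) := [(u3L, 24)]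

/-- Their numbers. -/
def codeE : List (ℕ × ℕ) := [(codeD.head!.1, 4344)]

attribute [local irreducible] chosen

theorem count_check : testsOK (plain testsE) codeE = true ∧ Nat.beq (chosen codeE).length 552 = true := by
  decide +kernel

theorem ncardE : (pickL testsE).ncard = 552 :=
  (ncard_pickL count_check.1).trans (Nat.eq_of_beq_eq_true count_check.2)

/-- The packed vector of a place. -/
def code (i : ℕ) : ℕ := vecCodes.getD i 0

theorem code_facts : code 0 = enc (v1L : GolayPt → ℤ) ∧ vecCodes.length = 552 ∧ vecCodes.Nodup ∧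
    ((List.range 276).all fun i => Nat.beq (code i + code (i + 276)) (enc (u3L : GolayPt → ℤ) + offs)) = true := by
  decide +kernel

theorem start_mem : v1L ∈ pickL testsE := by
  refine ⟨by decide +kernel, ?_⟩
  simp only [testsE, List.forall_mem_cons]
  exact ⟨by decide +kernel, fun _ h => absurd h List.not_mem_nil⟩

theorem three_len : threeElts.length = 8 := by simp [threeElts, threeWords]

theorem three_fix (k : Fin 8) : threeElts.getD k.1 1 • u3L = u3L := by
  rw [List.getD_eq_getElem _ _ (by rw [three_len]; exact k.2)]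
  exact threeElts_fix _ (List.getElem_mem (by rw [three_len]; exact k.2)) (u3L, -16) (by simp [testsD])

theorem smul_mem {g : Co0} (hg : g • u3L = u3L) {y : leechLattice} (hy : y ∈ pickL testsE) : g • y ∈ pickL testsE := by
  refine smul_mem_pickL (fun t ht => ?_) hy
  simp only [testsE, List.mem_cons, List.not_mem_nil, or_false] at ht
  subst ht
  exact hg

theorem tree_check : ((List.range 552).all fun q =>
    let e := vecTree.getD q (0, 0, 0)
    decide (e.1 < 552) && ((decide (q = 0) && Nat.beq e.1 0) ||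
      (decide (e.2.2 < 8) && ((List.range q).any fun r => Nat.beq (vecTree.getD r (0, 0, 0)).1 e.2.1) &&
        Nat.beq (step (threeMats.getD e.2.2 oneMat) (code e.2.1)) (code e.1)))) = true ∧
    (vecTree.map fun e => e.1).Nodup ∧ vecTree.length = 552 := by
  decide +kernel

theorem exists_vec_tree : ∀ q < 552, ∃ y ∈ pickL testsE,
    enc (y : GolayPt → ℤ) = code (vecTree.getD q (0, 0, 0)).1 := by
  intro q
  induction q using Nat.strong_induction_on with
  | _ q ih =>
    intro hq
    have h := tree_check.1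
    simp only [List.all_eq_true, List.any_eq_true, List.mem_range, Bool.or_eq_true, Bool.and_eq_true,
      decide_eq_true_eq] at h
    rcases (h q hq).2 with ⟨-, h0⟩ | ⟨⟨hk, r, hr, he⟩, hs⟩
    · exact ⟨v1L, start_mem, by rw [Nat.eq_of_beq_eq_true h0, code_facts.1]⟩
    · obtain ⟨y, hy, ey⟩ := ih r hr (by omega)
      refine ⟨_, smul_mem (three_fix ⟨_, hk⟩) hy, ?_⟩
      rw [← step_enc (isMat_three _) (by rw [hy.1]; norm_num), ey, Nat.eq_of_beq_eq_true he]
      exact Nat.eq_of_beq_eq_true hs

theorem exists_vec : ∀ i < 552, ∃ y ∈ pickL testsE, enc (y : GolayPt → ℤ) = code i := by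
  intro i hi
  obtain ⟨-, hnd, hlen⟩ := tree_check
  have hlt : ∀ q : Fin 552, (vecTree.getD q.1 (0, 0, 0)).1 < 552 := fun q => by
    have h := tree_check.1
    simp only [List.all_eq_true, List.mem_range, Bool.and_eq_true, decide_eq_true_eq] at h
    exact (h q.1 q.2).1
  let f : Fin 552 → Fin 552 := fun q => ⟨_, hlt q⟩
  have hinj : Function.Injective f := fun q r e => by
    have h := congrArg Fin.val e
    simp only [f, List.getD_eq_getElem _ _ (show q.1 < vecTree.length by rw [hlen]; exact q.2),
      List.getD_eq_getElem _ _ (show r.1 < vecTree.length by rw [hlen]; exact r.2)] at h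
    exact Fin.ext ((hnd.getElem_inj_iff (i := q.1) (j := r.1) (hi := by rw [List.length_map, hlen]; exact q.2)
      (hj := by rw [List.length_map, hlen]; exact r.2)).1 (by simpa using h))
  obtain ⟨q, hq⟩ := (Finite.injective_iff_surjective.1 hinj) ⟨i, hi⟩
  obtain ⟨y, hy, ey⟩ := exists_vec_tree q.1 q.2
  exact ⟨y, hy, by rw [ey]; exact congrArg code (congrArg Fin.val hq)⟩

/-- The vector of a place. -/
noncomputable def vec (i : Fin 552) : ↥(pickL testsE) :=
  ⟨(exists_vec i.1 i.2).choose, (exists_vec i.1 i.2).choose_spec.1⟩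

theorem enc_vec (i : Fin 552) : enc ((vec i).1 : GolayPt → ℤ) = code i.1 := (exists_vec i.1 i.2).choose_spec.2

theorem small_of_mem {y : leechLattice} (hy : y ∈ pickL testsE) : Small (y : GolayPt → ℤ) :=
  small_of_norm (by rw [hy.1]; norm_num)

theorem vec_eq {y : ↥(pickL testsE)} {i : Fin 552} (h : enc (y.1 : GolayPt → ℤ) = code i.1) : y = vec i :=
  Subtype.ext (Subtype.ext (enc_inj (small_of_mem y.2) (small_of_mem (vec i).2) (h.trans (enc_vec i).symm)))

theorem vec_bijective : Function.Bijective vec := by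
  have hf : (pickL testsE).Finite := Set.finite_of_ncard_pos (by rw [ncardE]; norm_num)
  have := hf.to_subtype
  have hinj : Function.Injective vec := fun i j e => by
    have h := congrArg (fun y : ↥(pickL testsE) => enc (y.1 : GolayPt → ℤ)) e
    simp only [enc_vec, code] at h
    obtain ⟨-, hl, hnd, -⟩ := code_facts
    rw [List.getD_eq_getElem _ _ (by rw [hl]; exact i.2), List.getD_eq_getElem _ _ (by rw [hl]; exact j.2),
      hnd.getElem_inj_iff] at h
    exact Fin.ext h
  refine (Nat.bijective_iff_injective_and_card vec).2 ⟨hinj, ?_⟩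
  rw [Nat.card_fin, Nat.card_coe_set_eq, ncardE]

/-- The vectors as places. -/
noncomputable def vecEquiv : Fin 552 ≃ ↥(pickL testsE) := Equiv.ofBijective vec vec_bijective

theorem co0_flip {g : Co0} (hg : g • u3L = u3L) (y : leechLattice) : g • (u3L - y) = u3L - g • y := by
  rw [co0_sub, hg]

theorem flip_mem {y : leechLattice} (hy : y ∈ pickL testsE) : u3L - y ∈ pickL testsE := by
  have h24 := hy.2 (u3L, 24) (by simp [testsE])
  have h48 : dotInt (u3L : GolayPt → ℤ) (u3L : GolayPt → ℤ) = 48 := by decide +kernel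
  have h32 := hy.1
  simp only [sqNorm, dotInt] at h24 h48 h32
  refine ⟨?_, ?_⟩
  · simp only [sqNorm, AddSubgroup.coe_sub, Pi.sub_apply]
    rw [Finset.sum_congr rfl fun i _ => show ((u3L : GolayPt → ℤ) i - (y : GolayPt → ℤ) i) ^ 2 =
      (u3L : GolayPt → ℤ) i * (u3L : GolayPt → ℤ) i - 2 * ((u3L : GolayPt → ℤ) i * (y : GolayPt → ℤ) i) +
        (y : GolayPt → ℤ) i ^ 2 by ring,
      Finset.sum_add_distrib, Finset.sum_sub_distrib, ← Finset.mul_sum, h24, h48, h32]
    norm_num
  · simp only [testsE, List.mem_singleton, forall_eq, dotInt, AddSubgroup.coe_sub, Pi.sub_apply, mul_sub,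
      Finset.sum_sub_distrib, h24, h48]
    norm_num

theorem enc_flip {y : leechLattice} (hy : y ∈ pickL testsE) :
    enc (y : GolayPt → ℤ) + enc ((u3L - y : leechLattice) : GolayPt → ℤ) = enc (u3L : GolayPt → ℤ) + offs := by
  have h1 := small_of_mem hy
  have h2 := small_of_mem (flip_mem hy)
  rw [enc, enc, enc, offs, ← pk_add, ← pk_add]
  refine pk_congr 24 0 fun i _ _ => ?_
  have hu : ∀ p, 1 ≤ (u3L : GolayPt → ℤ) p := by decide +kernel
  have hu' := hu (idxPt i)
  have ha := h1 (idxPt i)
  have hb := h2 (idxPt i)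
  simp only [AddSubgroup.coe_sub, Pi.sub_apply] at hb ⊢
  omega

/-- The place of the partner. -/
def flipAt (i : Fin 552) : Fin 552 := ⟨(i.1 + 276) % 552, Nat.mod_lt _ (by norm_num)⟩

theorem vec_flip (i : Fin 552) : (vec (flipAt i)).1 = u3L - (vec i).1 := by
  have h := code_facts.2.2.2
  simp only [List.all_eq_true, List.mem_range] at h
  have e := congrArg Subtype.val (vec_eq (y := ⟨_, flip_mem (vec i).2⟩) (i := flipAt i) (by
    show enc ((u3L - (vec i).1 : leechLattice) : GolayPt → ℤ) = _
    have h1 := enc_flip (vec i).2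
    rw [enc_vec] at h1
    rcases Nat.lt_or_ge i.1 276 with hlt | hge
    · have h2 := Nat.eq_of_beq_eq_true (h i.1 hlt)
      have e : (flipAt i).1 = i.1 + 276 := Nat.mod_eq_of_lt (by omega)
      rw [e]; omega
    · have h2 := Nat.eq_of_beq_eq_true (h (i.1 - 276) (by omega))
      rw [Nat.sub_add_cancel hge] at h2
      have e : (flipAt i).1 = i.1 - 276 := by show (i.1 + 276) % 552 = _; omega
      rw [e]; omega))
  exact e.symm

/-- The pair of a vector. -/
noncomputable def pairOf (y : ↥(pickL testsE)) : Fin 276 :=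
  ⟨(vecEquiv.symm y).1 % 276, Nat.mod_lt _ (by norm_num)⟩

/-- The first vector of a pair. -/
noncomputable def head (i : Fin 276) : ↥(pickL testsE) := vec ⟨i.1, by omega⟩

theorem pairOf_vec (i : Fin 552) : (pairOf (vec i)).1 = i.1 % 276 := by
  show (vecEquiv.symm (vec i)).1 % 276 = _
  rw [show vecEquiv.symm (vec i) = i from vecEquiv.symm_apply_apply i]

theorem pairOf_head (i : Fin 276) : pairOf (head i) = i :=
  Fin.ext (by rw [head, pairOf_vec]; exact Nat.mod_eq_of_lt i.2)

theorem pairOf_flip (y : ↥(pickL testsE)) : pairOf ⟨_, flip_mem y.2⟩ = pairOf y := by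
  obtain ⟨i, rfl⟩ := vec_bijective.2 y
  rw [show (⟨_, flip_mem (vec i).2⟩ : ↥(pickL testsE)) = vec (flipAt i) from Subtype.ext (vec_flip i).symm]
  refine Fin.ext ?_
  rw [pairOf_vec, pairOf_vec]
  show (i.1 + 276) % 552 % 276 = _
  omega

theorem head_pairOf (y : ↥(pickL testsE)) : (head (pairOf y)).1 = y.1 ∨ (head (pairOf y)).1 = u3L - y.1 := by
  obtain ⟨i, rfl⟩ := vec_bijective.2 y
  rcases Nat.lt_or_ge i.1 276 with hlt | hge
  · left
    show (vec _).1 = _
    congr 2
    exact Fin.ext (by show (pairOf (vec i)).1 = i.1; rw [pairOf_vec]; omega)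
  · right
    rw [← vec_flip]
    show (vec _).1 = _
    congr 2
    refine Fin.ext ?_
    show (pairOf (vec i)).1 = (i.1 + 276) % 552
    rw [pairOf_vec]; omega

end CfsgLib.Spor.CoThreePerm
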